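import Groth.Agent.L13.Fitting.LocFree
import Groth.Agent.L13.Fitting.Minors
import Groth.Agent.L13.Fitting.BaseChange
import Groth.Agent.L11.BlowPerfect.Alg
import Mathlib.RingTheory.Grassmannian
import Mathlib.RingTheory.Flat.LocallyFree

/-!
Rank-`m` quotients of the cokernel of a vector `f : R → R^{m+1}`.
-/

set_option autoImplicit false
set_option linter.style.haveILetI false
universe u

open TensorProduct CategoryTheory
open scoped Classical

noncomputable section

namespace Groth.L02.QuotLF.Coker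

variable {R : Type u} [CommRing R] {m : ℕ} (f : Fin (m + 1) → R)

/-- the cokernel -/
abbrev Mf : Type u := (Fin (m + 1) → R) ⧸ Submodule.span R {f}

/-- the generators -/
def x (j : Fin (m + 1)) : Mf f := Submodule.Quotient.mk (Pi.single j 1)

theorem sum_x (z : Fin (m + 1) → R) : ∑ j, z j • x f j = Submodule.Quotient.mk z := by
  conv_rhs => rw [pi_eq_sum_univ' z]
  refine Eq.trans (Finset.sum_congr rfl fun j _ => ?_) (map_sum (Submodule.span R {f}).mkQ (fun j => z j • (Pi.single j 1 : Fin (m + 1) → R)) Finset.univ).symm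
  simp [x]

theorem span_x : Submodule.span R (Set.range (x f)) = ⊤ := top_unique fun y _ => by
  obtain ⟨z, rfl⟩ := Submodule.Quotient.mk_surjective _ y
  rw [← sum_x f z]
  exact Submodule.sum_mem _ fun j _ => Submodule.smul_mem _ _ (Submodule.subset_span ⟨j, rfl⟩)

theorem rel_iff (z : Fin (m + 1) → R) : ∑ j, z j • x f j = 0 ↔ ∃ c : R, c • f = z := by
  rw [sum_x, Submodule.Quotient.mk_eq_zero, Submodule.mem_span_singleton]

theorem fitting_eq : Fitt.ideal R (Mf f) m = Ideal.span (Set.range f) := by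
  rw [Groth.L13.Fitting.ideal_eq_tup (x f) (span_x f), Groth.L13.Fitting.tup_eq_minors,
    show m + 1 - m = 1 by omega]
  refine le_antisymm (Ideal.span_le.2 ?_) (Ideal.span_le.2 ?_)
  · rintro _ ⟨z, e, hz, rfl⟩
    obtain ⟨c, hc⟩ := (rel_iff f _).1 (hz 0)
    rw [SetLike.mem_coe, Matrix.det_fin_one, Matrix.of_apply, ← hc, Pi.smul_apply, smul_eq_mul]
    exact Ideal.mul_mem_left _ _ (Ideal.subset_span ⟨_, rfl⟩)
  · rintro _ ⟨j, rfl⟩
    refine Ideal.subset_span ⟨fun _ => f, fun _ => j, fun _ => (rel_iff f f).2 ⟨1, one_smul _ _⟩, ?_⟩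
    rw [Matrix.det_fin_one, Matrix.of_apply]

theorem fitting_bot {j : ℕ} (hj : j < m) : Fitt.ideal R (Mf f) j = ⊥ := by
  rw [Groth.L13.Fitting.ideal_eq_tup (x f) (span_x f), Groth.L13.Fitting.tup_eq_minors, eq_bot_iff]
  refine Ideal.span_le.2 ?_
  rintro _ ⟨z, e, hz, rfl⟩
  choose c hc using fun q => (rel_iff f _).1 (hz q)
  rw [SetLike.mem_coe, Ideal.mem_bot]
  have : Nontrivial (Fin (m + 1 - j)) := Fin.nontrivial_iff_two_le.mpr (by omega)
  rw [show (Matrix.of fun a b => z b (e a)) = Matrix.vecMulVec (fun a => f (e a)) c by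
    ext a b; simp [Matrix.vecMulVec_apply, ← hc b, mul_comm]]
  exact Matrix.det_vecMulVec _ _

section Pt

variable {A : Type u} [CommRing A] [Algebra R A] (i : Fin (m + 1)) (a : Fin m → A)

/-- `a` is a point of the chart at `i` -/
def Ok : Prop := ∀ j, algebraMap R A (f (i.succAbove j)) = a j * algebraMap R A (f i)

/-- coordinates relative to the chart -/
def coord : (Fin (m + 1) → R) →ₗ[R] (Fin m → A) where
  toFun z j := algebraMap R A (z (i.succAbove j)) - a j * algebraMap R A (z i)
  map_add' z w := by funext j; simp; ring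
  map_smul' c z := by funext j; simp [Algebra.smul_def]; ring

variable {f i a}

/-- coordinates on the cokernel -/
def coordQ (h : Ok f i a) : Mf f →ₗ[R] (Fin m → A) :=
  (Submodule.span R {f}).liftQ (coord i a) ((Submodule.span_singleton_le_iff_mem _ _).2
    (by rw [LinearMap.mem_ker]; funext j; show algebraMap R A _ - _ = 0; rw [h j, sub_self]))

theorem coordQ_x (h : Ok f i a) (l : Fin (m + 1)) (k : Fin m) :
    coordQ h (x f l) k = algebraMap R A ((Pi.single l 1 : Fin (m + 1) → R) (i.succAbove k)) -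
      a k * algebraMap R A ((Pi.single l 1 : Fin (m + 1) → R) i) := rfl

/-- the quotient map of the point -/
def π (h : Ok f i a) : A ⊗[R] Mf f →ₗ[A] (Fin m → A) :=
  LinearMap.liftBaseChange A (coordQ h)

theorem π_bc_succ (h : Ok f i a) (j : Fin m) :
    π h (Groth.L13.Fitting.bc (R := R) A (x f) (i.succAbove j)) = Pi.single j 1 := by
  funext k
  show ((LinearMap.liftBaseChange A (coordQ h)) ((1 : A) ⊗ₜ[R] x f (i.succAbove j))) k = _
  rw [LinearMap.liftBaseChange_tmul, one_smul, coordQ_x]
  rw [Pi.single_eq_of_ne (Fin.succAbove_ne i j).symm, map_zero, mul_zero, sub_zero]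
  rcases eq_or_ne k j with rfl | hk
  · simp
  · rw [Pi.single_eq_of_ne hk, Pi.single_eq_of_ne (fun e => hk (Fin.succAbove_right_injective e)), map_zero]

theorem π_bc_self (h : Ok f i a) : π h (Groth.L13.Fitting.bc (R := R) A (x f) i) = -a := by
  funext k
  show ((LinearMap.liftBaseChange A (coordQ h)) ((1 : A) ⊗ₜ[R] x f i)) k = _
  rw [LinearMap.liftBaseChange_tmul, one_smul, coordQ_x]
  rw [Pi.single_eq_of_ne (Fin.succAbove_ne i k), Pi.single_eq_same, map_zero, map_one]
  simp

theorem π_surjective (h : Ok f i a) : Function.Surjective (π h) := fun v =>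
  ⟨∑ j, v j • Groth.L13.Fitting.bc (R := R) A (x f) (i.succAbove j), by
    simp only [map_sum, map_smul, π_bc_succ]
    exact (pi_eq_sum_univ' v).symm⟩

/-- the Grassmannian point -/
def pt (h : Ok f i a) : Module.Grassmannian A (A ⊗[R] Mf f) m :=
  { toSubmodule := LinearMap.ker (π h)
    finite_quotient := Module.Finite.equiv ((π h).quotKerEquivOfSurjective (π_surjective h)).symm
    projective_quotient := Module.Projective.of_equiv ((π h).quotKerEquivOfSurjective (π_surjective h)).symm
    rankAtStalk_eq := fun p => by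
      haveI : Nontrivial A := p.nontrivial
      rw [Module.rankAtStalk_eq_of_equiv ((π h).quotKerEquivOfSurjective (π_surjective h)),
        Module.rankAtStalk_eq_finrank_of_free, Pi.natCast_apply, Nat.cast_id, Module.finrank_fin_fun] }

/-- the spanning vector -/
def w (A : Type u) [CommRing A] [Algebra R A] (f : Fin (m + 1) → R) (i : Fin (m + 1)) (a : Fin m → A) : A ⊗[R] Mf f :=
  Groth.L13.Fitting.bc (R := R) A (x f) i + ∑ j, a j • Groth.L13.Fitting.bc (R := R) A (x f) (i.succAbove j)

theorem π_w (h : Ok f i a) (b : Fin m → A) : π h (w A f i b) = b - a := by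
  simp only [w, map_add, map_sum, map_smul, π_bc_succ, π_bc_self]
  rw [← pi_eq_sum_univ' b]
  abel

theorem pt_le (h : Ok f i a) (N : Submodule A (A ⊗[R] Mf f)) (hw : w A f i a ∈ N) : (pt h).toSubmodule ≤ N := by
  intro v hv
  obtain ⟨c, rfl⟩ := (Submodule.mem_span_range_iff_exists_fun A).1
    ((Groth.L13.Fitting.span_bc (R' := A) (x f) (span_x f)).ge (Submodule.mem_top (x := v)))
  have hv' : π h (∑ j, c j • Groth.L13.Fitting.bc (R := R) A (x f) j) = 0 := hv
  rw [Fin.sum_univ_succAbove _ i] at hv' ⊢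
  simp only [map_add, map_sum, map_smul, π_bc_succ, π_bc_self] at hv'
  rw [← pi_eq_sum_univ' (fun j => c (i.succAbove j)), smul_neg, neg_add_eq_zero] at hv'
  have : c i • w A f i a ∈ N := N.smul_mem _ hw
  convert this using 1
  rw [w, smul_add, Finset.smul_sum]
  congr 1
  refine Finset.sum_congr rfl fun j _ => ?_
  rw [← mul_smul, ← congrFun hv' j]
  simp

end Pt

theorem eq_of_le {A : Type u} [CommRing A] {M : Type u} [AddCommGroup M] [Module A M] {k : ℕ}
    (N N' : Module.Grassmannian A M k) (h : N.toSubmodule ≤ N'.toSubmodule) : N = N' := by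
  let q : (M ⧸ N.toSubmodule) →ₗ[A] M ⧸ N'.toSubmodule := N.toSubmodule.liftQ N'.toSubmodule.mkQ (by rwa [Submodule.ker_mkQ])
  have hb := Module.bijective_of_surjective_of_rankAtStalk_eq (φ := q)
    (fun y => by
      obtain ⟨z, rfl⟩ := Submodule.Quotient.mk_surjective _ y
      exact ⟨Submodule.Quotient.mk z, rfl⟩) fun p _ => (N.rankAtStalk_eq _).trans (N'.rankAtStalk_eq _).symm
  refine Module.Grassmannian.ext (le_antisymm h fun v hv => ?_)
  have : q (Submodule.Quotient.mk v) = q 0 := by
    rw [map_zero]; exact (Submodule.Quotient.mk_eq_zero _).2 hv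
  exact (Submodule.Quotient.mk_eq_zero _).1 (hb.1 this)

variable {A B : Type u} [CommRing A] [Algebra R A] [CommRing B] [Algebra R B] (φ : A →ₐ[R] B)

theorem mem_map (N : Module.Grassmannian A (A ⊗[R] Mf f) m) (z : Fin (m + 1) → A)
    (hz : ∑ j, z j • Groth.L13.Fitting.bc (R := R) A (x f) j ∈ N.toSubmodule) :
    ∑ j, φ (z j) • Groth.L13.Fitting.bc (R := R) B (x f) j ∈ (Module.Grassmannian.map φ N).toSubmodule := by
  rw [Module.Grassmannian.map_toSubmodule]
  letI : Algebra A B := φ.toRingHom.toAlgebra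
  haveI : IsScalarTower R A B := IsScalarTower.of_algebraMap_eq' φ.comp_algebraMap.symm
  show Module.Grassmannian.baseChangeMkQ B N.toSubmodule _ = 0
  have hb : ∀ j, Module.Grassmannian.baseChangeMkQ B N.toSubmodule (Groth.L13.Fitting.bc (R := R) B (x f) j) =
      (1 : B) ⊗ₜ[A] N.toSubmodule.mkQ (Groth.L13.Fitting.bc (R := R) A (x f) j) := fun j => by
    show N.toSubmodule.mkQ.baseChange B ((AlgebraTensorModule.cancelBaseChange R A B B (Mf f)).symm ((1 : B) ⊗ₜ[R] x f j)) = _
    rw [AlgebraTensorModule.cancelBaseChange_symm_tmul, LinearMap.baseChange_tmul]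
    rfl
  simp only [map_sum, map_smul, hb, TensorProduct.smul_tmul']
  have : ∀ j, (φ (z j) • (1 : B)) ⊗ₜ[A] N.toSubmodule.mkQ (Groth.L13.Fitting.bc (R := R) A (x f) j) =
      (1 : B) ⊗ₜ[A] N.toSubmodule.mkQ (z j • Groth.L13.Fitting.bc (R := R) A (x f) j) := fun j => by
    rw [map_smul, ← TensorProduct.smul_tmul]
    rfl
  rw [Finset.sum_congr rfl fun j _ => this j, ← TensorProduct.tmul_sum, ← map_sum,
    Submodule.mkQ_apply, (Submodule.Quotient.mk_eq_zero _).2 hz, TensorProduct.tmul_zero]

variable {f} {i : Fin (m + 1)} {a : Fin m → A}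

theorem w_eq_sum (a : Fin m → A) : w A f i a =
    ∑ j, (i.insertNth (α := fun _ => A) 1 a) j • Groth.L13.Fitting.bc (R := R) A (x f) j := by
  rw [Fin.sum_univ_succAbove _ i]
  simp [w]

theorem Ok.map (h : Ok f i a) : Ok f i fun j => φ (a j) := fun j => by
  rw [← φ.commutes, h j, map_mul, φ.commutes]

theorem map_pt (h : Ok f i a) : Module.Grassmannian.map φ (pt h) = pt (h.map φ) := by
  refine (eq_of_le _ _ (pt_le _ _ ?_)).symm
  have hw : w A f i a ∈ (pt h).toSubmodule := by
    show π h _ = 0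
    rw [π_w, sub_self]
  rw [w_eq_sum] at hw ⊢
  have := mem_map f φ (pt h) _ hw
  convert this using 4 with j _
  rcases Fin.eq_self_or_eq_succAbove i j with rfl | ⟨l, rfl⟩ <;> simp

theorem pt_injective {b : Fin m → A} (h : Ok f i a) (h' : Ok f i b) (e : pt h = pt h') : a = b := by
  have hw : w A f i a ∈ (pt h').toSubmodule := by
    rw [← e]
    show π h _ = 0
    rw [π_w, sub_self]
  have : π h' (w A f i a) = 0 := hw
  rwa [π_w, sub_eq_zero] at this

omit i in
/-- Every point is in some chart near a given prime. -/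
theorem exists_rel (N : Module.Grassmannian A (A ⊗[R] Mf f) m) (p : Ideal A) [p.IsPrime] :
    ∃ (i : Fin (m + 1)) (z : Fin (m + 1) → A), z i ∉ p ∧
      ∑ j, z j • Groth.L13.Fitting.bc (R := R) A (x f) j ∈ N.toSubmodule := by
  haveI := N.projective_quotient
  haveI := N.finite_quotient
  haveI : Module.FinitePresentation A ((A ⊗[R] Mf f) ⧸ N.toSubmodule) := Module.finitePresentation_of_projective _ _
  have h1 := ((Groth.L13.Fitting.projective_rank_iff (M := (A ⊗[R] Mf f) ⧸ N.toSubmodule) m).1
    ⟨N.projective_quotient, N.rankAtStalk_eq⟩).2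
  let q : Fin (m + 1) → (A ⊗[R] Mf f) ⧸ N.toSubmodule := fun j => N.toSubmodule.mkQ (Groth.L13.Fitting.bc (R := R) A (x f) j)
  have hq : Submodule.span A (Set.range q) = ⊤ := by
    rw [show Set.range q = N.toSubmodule.mkQ '' Set.range (Groth.L13.Fitting.bc (R := R) A (x f)) from Set.range_comp' _ _,
      Submodule.span_image, Groth.L13.Fitting.span_bc (R' := A) (x f) (span_x f), Submodule.map_top, Submodule.range_mkQ]
  rw [Groth.L13.Fitting.ideal_eq_tup q hq, Groth.L13.Fitting.tup_eq_minors, show m + 1 - m = 1 by omega] at h1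
  by_contra hne
  push Not at hne
  refine ‹p.IsPrime›.ne_top (top_unique (h1.ge.trans (Ideal.span_le.2 ?_)))
  rintro _ ⟨z, e, hz, rfl⟩
  rw [SetLike.mem_coe, Matrix.det_fin_one, Matrix.of_apply]
  by_contra hp
  refine hne (e 0) (z 0) hp ((Submodule.Quotient.mk_eq_zero _).1 ?_)
  rw [← Submodule.mkQ_apply, map_sum]
  simp only [map_smul]
  exact hz 0

omit i in
/-- Where a relation has a unit coordinate the point is in that chart. -/
theorem exists_pt (N : Module.Grassmannian A (A ⊗[R] Mf f) m) (i : Fin (m + 1)) (z : Fin (m + 1) → A)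
    (hu : IsUnit (z i)) (hz : ∑ j, z j • Groth.L13.Fitting.bc (R := R) A (x f) j ∈ N.toSubmodule) :
    ∃ (b : Fin m → A) (h : Ok f i b), pt h = N := by
  haveI := N.projective_quotient
  haveI := N.finite_quotient
  let b : Fin m → A := fun j => hu.unit⁻¹.val * z (i.succAbove j)
  have hw : w A f i b ∈ N.toSubmodule := by
    have := N.toSubmodule.smul_mem hu.unit⁻¹.val hz
    convert this using 1
    rw [Fin.sum_univ_succAbove _ i, smul_add, Finset.smul_sum, w, ← mul_smul, hu.val_inv_mul, one_smul]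
    simp [b, mul_smul]
  let ψ : (Fin m → A) →ₗ[A] (A ⊗[R] Mf f) ⧸ N.toSubmodule := Fintype.linearCombination A
    fun j => N.toSubmodule.mkQ (Groth.L13.Fitting.bc (R := R) A (x f) (i.succAbove j))
  have hψ : Function.Surjective ψ := by
    intro y
    obtain ⟨v, rfl⟩ := Submodule.Quotient.mk_surjective _ y
    obtain ⟨c, rfl⟩ := (Submodule.mem_span_range_iff_exists_fun A).1
      ((Groth.L13.Fitting.span_bc (R' := A) (x f) (span_x f)).ge (Submodule.mem_top (x := v)))
    refine ⟨fun j => c (i.succAbove j) - c i * b j, ?_⟩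
    rw [Fintype.linearCombination_apply, ← sub_eq_zero, ← Submodule.mkQ_apply]
    simp only [← map_smul, ← map_sum, ← map_sub]
    rw [Submodule.mkQ_apply, Submodule.Quotient.mk_eq_zero]
    convert N.toSubmodule.neg_mem (N.toSubmodule.smul_mem (c i) hw) using 1
    rw [Fin.sum_univ_succAbove _ i, w, smul_add, Finset.smul_sum]
    rw [Finset.sum_congr rfl fun j _ => sub_smul (c (i.succAbove j)) (c i * b j) (Groth.L13.Fitting.bc (R := R) A (x f) (i.succAbove j)),
      Finset.sum_sub_distrib, Finset.sum_congr rfl fun j _ => mul_smul (c i) (b j) (Groth.L13.Fitting.bc (R := R) A (x f) (i.succAbove j))]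
    abel
  have hinj : Function.Injective ψ := (Module.bijective_of_surjective_of_rankAtStalk_eq hψ fun p _ => by
    haveI : Nontrivial A := ⟨⟨0, 1, fun e => (‹p.IsMaximal›).ne_top ((Ideal.eq_top_iff_one p).2 (e ▸ p.zero_mem))⟩⟩
    rw [N.rankAtStalk_eq, Module.rankAtStalk_eq_finrank_of_free, Pi.natCast_apply, Nat.cast_id,
      Module.finrank_fin_fun]).1
  have hok : Ok f i b := by
    have h0 : ∑ j, algebraMap R A (f j) • Groth.L13.Fitting.bc (R := R) A (x f) j = 0 :=
      Groth.L13.Fitting.mem_rel.1 (Groth.L13.Fitting.phi_mem_rel (R' := A)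
        (Groth.L13.Fitting.mem_rel.2 ((rel_iff f f).2 ⟨1, one_smul _ _⟩)))
    have h2 : ψ (fun j => algebraMap R A (f (i.succAbove j)) - algebraMap R A (f i) * b j) = 0 := by
      rw [Fintype.linearCombination_apply]
      simp only [← map_smul, ← map_sum]
      rw [Submodule.mkQ_apply, Submodule.Quotient.mk_eq_zero]
      convert N.toSubmodule.neg_mem (N.toSubmodule.smul_mem (algebraMap R A (f i)) hw) using 1
      rw [Fin.sum_univ_succAbove _ i] at h0
      rw [w, smul_add, Finset.smul_sum]
      rw [Finset.sum_congr rfl fun j _ => sub_smul (algebraMap R A (f (i.succAbove j))) (algebraMap R A (f i) * b j) (Groth.L13.Fitting.bc (R := R) A (x f) (i.succAbove j)),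
        Finset.sum_sub_distrib, Finset.sum_congr rfl fun j _ => mul_smul (algebraMap R A (f i)) (b j) (Groth.L13.Fitting.bc (R := R) A (x f) (i.succAbove j)),
        eq_neg_of_add_eq_zero_right h0]
      abel
    intro j
    have := congrFun (hinj (h2.trans (map_zero ψ).symm)) j
    simp only [Pi.zero_apply, sub_eq_zero] at this
    rw [this, mul_comm]
  exact ⟨b, hok, eq_of_le _ _ (pt_le hok _ hw)⟩

end Groth.L02.QuotLF.Coker
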