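import Groth.Agent.L02.QuotLF.Coker
import Groth.Agent.L02.QuotLF.Hom
import Groth.Agent.L18.Grass.AffineHom
import Mathlib.AlgebraicGeometry.Morphisms.Flat

/-!
The Grassmannian of the cokernel of a Koszul-regular vector has invertible inverse image ideal.
-/

set_option autoImplicit false
set_option linter.style.haveILetI false
universe u

open TensorProduct CategoryTheory CategoryTheory.Limits AlgebraicGeometry MvPolynomial

noncomputable section

namespace Groth.L02.QuotLF.Coker

variable {R : Type u} [CommRing R] {m : ℕ} (f : Fin (m + 1) → R)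

/-- the chart ring -/
abbrev ChartRing (i : Fin (m + 1)) : Type u :=
  MvPolynomial (Fin m) R ⧸ Ideal.span (Set.range (Groth.L11.BlowPerfect.rel f i))

/-- the coordinates -/
def var (i : Fin (m + 1)) (j : Fin m) : ChartRing f i := Ideal.Quotient.mk _ (MvPolynomial.X j)

theorem ok_var (i : Fin (m + 1)) : Ok f i (var f i) := fun j => by
  show Ideal.Quotient.mk _ (C (f (i.succAbove j))) = Ideal.Quotient.mk _ (X j) * Ideal.Quotient.mk _ (C (f i))
  rw [← map_mul, eq_comm, Ideal.Quotient.mk_eq_mk_iff_sub_mem]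
  refine Ideal.subset_span ⟨j, ?_⟩
  show C (f i) * X j - C (f (i.succAbove j)) = _
  rw [mul_comm]

variable {f}

theorem exists_classify {A : Type u} [CommRing A] [Algebra R A] {i : Fin (m + 1)} {a : Fin m → A} (h : Ok f i a) :
    ∃ ψ : ChartRing f i →ₐ[R] A, ∀ j, ψ (var f i j) = a j := by
  refine ⟨Ideal.Quotient.liftₐ _ (aeval a) fun x hx => ?_, fun j => by simp [var]⟩
  refine (Ideal.span_le (I := RingHom.ker (aeval (R := R) a).toRingHom)).2 ?_ hx
  rintro _ ⟨j, rfl⟩
  show aeval a (C (f i) * X j - C (f (i.succAbove j))) = 0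
  simp [h j, mul_comm]

theorem algHom_ext {A : Type u} [CommRing A] [Algebra R A] {i : Fin (m + 1)} {φ ψ : ChartRing f i →ₐ[R] A}
    (h : ∀ j, φ (var f i j) = ψ (var f i j)) : φ = ψ :=
  Ideal.Quotient.algHom_ext R (MvPolynomial.algHom_ext h)

theorem mem_nonZeroDivisors (hf : LCI.IsKoszulRegularSeq R (List.ofFn f)) (i : Fin (m + 1)) :
    IsSMulRegular (ChartRing f i) (algebraMap R (ChartRing f i) (f i)) := by
  rw [isSMulRegular_iff_right_eq_zero_of_smul]
  intro x hx
  obtain ⟨F, rfl⟩ := Ideal.Quotient.mk_surjective x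
  change Ideal.Quotient.mk _ (C (f i)) * Ideal.Quotient.mk _ F = 0 at hx
  rw [← map_mul, Ideal.Quotient.eq_zero_iff_mem, ← Groth.L11.BlowPerfect.ofList_ofFn] at hx
  rw [Ideal.Quotient.eq_zero_iff_mem, ← Groth.L11.BlowPerfect.ofList_ofFn]
  exact (Groth.L11.BlowPerfect.rel_regular f i hf).2 1 F (by rwa [pow_one])

variable {G : Over (Spec (CommRingCat.of R))}
  (eG : ∀ A : CommAlgCat.{u} R, (Over.mk (Spec.map (CommRingCat.ofHom (algebraMap R A))) ⟶ G) ≃
    (Module.Grassmannian.functor (R := R) (M := Mf f) m).obj A)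
  (heG : ∀ (A A' : CommAlgCat.{u} R) (φ : A ⟶ A')
    (g : Over.mk (Spec.map (CommRingCat.ofHom (algebraMap R A))) ⟶ G)
    (g' : Over.mk (Spec.map (CommRingCat.ofHom (algebraMap R A'))) ⟶ G),
      g'.left = Spec.map (CommRingCat.ofHom φ.hom.toRingHom) ≫ g.left →
        eG A' g' = (Module.Grassmannian.functor (R := R) (M := Mf f) m).map φ (eG A g))

/-- the chart -/
def chart (i : Fin (m + 1)) :
    Over.mk (Spec.map (CommRingCat.ofHom (algebraMap R (CommAlgCat.of R (ChartRing f i))))) ⟶ G :=
  (eG (CommAlgCat.of R (ChartRing f i))).symm (pt (ok_var f i))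

include heG in
theorem eG_comp_chart {i : Fin (m + 1)} {A : CommAlgCat.{u} R} (φ : CommAlgCat.of R (ChartRing f i) ⟶ A)
    (g : Over.mk (Spec.map (CommRingCat.ofHom (algebraMap R A))) ⟶ G)
    (hg : g.left = Spec.map (CommRingCat.ofHom φ.hom.toRingHom) ≫ (chart eG i).left) :
    eG A g = pt ((ok_var f i).map φ.hom) := by
  rw [heG _ _ φ (chart eG i) g hg, show eG _ (chart eG i) = pt (ok_var f i) from (eG _).apply_symm_apply _]
  exact map_pt φ.hom (ok_var f i)

include heG in
theorem eq_of_comp_chart (i : Fin (m + 1)) {B : CommRingCat.{u}} (a b : Spec B ⟶ Spec (CommRingCat.of (ChartRing f i)))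
    (hab : a ≫ (chart eG i).left = b ≫ (chart eG i).left) : a = b := by
  have hu : (chart eG i).left ≫ G.hom = Spec.map (CommRingCat.ofHom (algebraMap R (ChartRing f i))) := Over.w (chart eG i)
  obtain ⟨alg, x, hx⟩ := Groth.L18.GrassAff.exists_alg (X := G) (a ≫ (chart eG i).left)
  letI := alg
  have hw : (a ≫ (chart eG i).left) ≫ G.hom = Spec.map (CommRingCat.ofHom (algebraMap R B)) := by
    rw [← hx]; exact Over.w x
  obtain ⟨φ, hφ⟩ := Groth.L18.GrassAff.exists_algHom (A := CommAlgCat.of R (ChartRing f i))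
    (B := CommAlgCat.of R B) a (Eq.trans (by rw [Category.assoc, hu]) hw)
  obtain ⟨ψ, hψ⟩ := Groth.L18.GrassAff.exists_algHom (A := CommAlgCat.of R (ChartRing f i))
    (B := CommAlgCat.of R B) b (Eq.trans (by rw [hab, Category.assoc, hu]) hw)
  have h := (eG_comp_chart eG heG φ x (by rw [hx, hφ])).symm.trans
    (eG_comp_chart eG heG ψ x (by rw [hx, hab, hψ]))
  have h2 : φ.hom = ψ.hom := algHom_ext fun j => congrFun (pt_injective _ _ h) j
  rw [← hφ, ← hψ, h2]

include heG in
theorem mono_chart (i : Fin (m + 1)) : Mono (chart eG i).left :=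
  ⟨fun {T} a b hab => T.affineCover.hom_ext _ _ fun k =>
    eq_of_comp_chart eG heG i _ _ (by simp only [Category.assoc]; exact congrArg (T.affineCover.f k ≫ ·) hab)⟩

include heG in
theorem isEffCartier (hf : LCI.IsKoszulRegularSeq R (List.ofFn f)) :
    BlowUp.IsEffCartierIdeal
      ((Spec.map (CommRingCat.ofHom (Ideal.Quotient.mk (Ideal.span (Set.range f))))).ker.comap G.hom) := by
  intro x
  obtain ⟨_, ⟨U, hU, rfl⟩, hxU, -⟩ :=
    G.left.isBasis_affineOpens.exists_subset_of_mem_open (Set.mem_univ x) isOpen_univ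
  let U' : G.left.Opens := U
  let A := Γ(G.left, U')
  letI : Algebra R A := (χ G.hom U').toAlgebra
  let p := (hU.primeIdealOf ⟨x, hxU⟩).asIdeal
  let N := eG (CommAlgCat.of R A) (Over.homMk hU.fromSpec (fromSpec_comp G.hom hU))
  obtain ⟨i, z, hzp, hz⟩ := exists_rel (f := f) N p
  let V : G.left.Opens := G.left.basicOpen (z i)
  have hV : IsAffineOpen V := hU.basicOpen (z i)
  let le : V ≤ U' := G.left.basicOpen_le (z i)
  let B := Γ(G.left, V)
  letI : Algebra R B := (χ G.hom V).toAlgebra
  let r : A →ₐ[R] B :=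
    { (G.left.presheaf.map (homOfLE le).op).hom with
      commutes' := fun c => by
        show (G.left.presheaf.map (homOfLE le).op).hom (χ G.hom U' c) = χ G.hom V c
        simp only [χ, RingHom.comp_apply]
        rw [← CommRingCat.comp_apply, ← Functor.map_comp]
        rfl }
  let g : Over.mk (Spec.map (CommRingCat.ofHom (algebraMap R (CommAlgCat.of R B)))) ⟶ G :=
    Over.homMk hV.fromSpec (fromSpec_comp G.hom hV)
  have hN : eG (CommAlgCat.of R B) g = Module.Grassmannian.map r N :=
    heG _ _ (CommAlgCat.ofHom r) (Over.homMk hU.fromSpec (fromSpec_comp G.hom hU)) g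
      (hU.map_fromSpec hV (homOfLE le).op).symm
  have hunit : IsUnit (r (z i)) := RingedSpace.isUnit_res_basicOpen _ (z i)
  obtain ⟨b, hb, hbN⟩ := exists_pt (f := f) (Module.Grassmannian.map r N) i (fun j => r (z j)) hunit (mem_map f r N z hz)
  obtain ⟨ψ, hψ⟩ := exists_classify hb
  let s : Spec (CommRingCat.of B) ⟶ Spec (CommRingCat.of (ChartRing f i)) := Spec.map (CommRingCat.ofHom ψ.toRingHom)
  have hu : (chart eG i).left ≫ G.hom = Spec.map (CommRingCat.ofHom (algebraMap R (ChartRing f i))) := Over.w (chart eG i)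
  have hs : s ≫ (chart eG i).left = hV.fromSpec := by
    let g' : Over.mk (Spec.map (CommRingCat.ofHom (algebraMap R (CommAlgCat.of R B)))) ⟶ G :=
      Over.homMk (s ≫ (chart eG i).left) (by
        show (s ≫ (chart eG i).left) ≫ G.hom = _
        rw [Category.assoc, hu, ← Spec.map_comp, ← CommRingCat.ofHom_comp]
        exact congrArg (fun t => Spec.map (CommRingCat.ofHom t)) ψ.comp_algebraMap)
    have : g' = g := (eG _).injective (by
      rw [eG_comp_chart eG heG (CommAlgCat.ofHom ψ) g' rfl, hN, ← hbN]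
      congr 1
      funext j
      exact hψ j)
    exact congrArg CommaMorphism.left this
  haveI := mono_chart eG heG i
  haveI : IsOpenImmersion hV.fromSpec := hV.isOpenImmersion_fromSpec
  let P := pullback (chart eG i).left hV.fromSpec
  let σ : Spec (CommRingCat.of B) ⟶ P := pullback.lift s (𝟙 _) (by rw [hs]; exact (Category.id_comp _).symm)
  haveI : IsIso σ := ⟨pullback.snd _ _, pullback.lift_snd _ _ _, by
    refine pullback.hom_ext ?_ ?_
    · rw [← cancel_mono (chart eG i).left]
      simp only [σ, Category.assoc, pullback.lift_fst_assoc, Category.id_comp, hs]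
      exact pullback.condition.symm
    · rw [Category.assoc, pullback.lift_snd, Category.id_comp, Category.comp_id]⟩
  haveI : IsOpenImmersion s := by
    rw [← pullback.lift_fst s (𝟙 _) (show s ≫ (chart eG i).left = 𝟙 _ ≫ hV.fromSpec by rw [hs, Category.id_comp])]
    exact inferInstanceAs (IsOpenImmersion (σ ≫ pullback.fst _ _))
  have hflat : ψ.toRingHom.Flat :=
    (HasRingHomProperty.Spec_iff (P := @Flat)).1 (show Flat (Spec.map (CommRingCat.ofHom ψ.toRingHom)) from
      (inferInstance : Flat s))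
  have hxV : x ∈ V := by
    have hmem : hU.primeIdealOf ⟨x, hxU⟩ ∈ PrimeSpectrum.basicOpen (z i) := hzp
    rw [← IsAffineOpen.fromSpec_preimage_basicOpen hU (z i)] at hmem
    have : hU.fromSpec (hU.primeIdealOf ⟨x, hxU⟩) ∈ G.left.basicOpen (z i) := hmem
    rwa [hU.fromSpec_primeIdealOf ⟨x, hxU⟩] at this
  refine ⟨⟨V, hV⟩, hxV, algebraMap R B (f i), ?_, ?_⟩
  · letI : Algebra (ChartRing f i) B := ψ.toRingHom.toAlgebra
    haveI : Module.Flat (ChartRing f i) B := hflat
    have h := IsSMulRegular.of_flat (S := B) (mem_nonZeroDivisors hf i)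
    rw [show algebraMap (ChartRing f i) B (algebraMap R (ChartRing f i) (f i)) = algebraMap R B (f i) from
      ψ.commutes (f i)] at h
    exact mem_nonZeroDivisors_iff_right.mpr fun y hy => h (by simpa [smul_eq_mul, mul_comm] using hy)
  · rw [ideal_comap G.hom, Ideal.map_span]
    refine le_antisymm (Ideal.span_le.2 ?_) ((Ideal.span_singleton_le_iff_mem _).2 (Ideal.subset_span ⟨f i, ⟨i, rfl⟩, rfl⟩))
    rintro _ ⟨_, ⟨j, rfl⟩, rfl⟩
    rcases Fin.eq_self_or_eq_succAbove i j with rfl | ⟨l, rfl⟩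
    · exact Ideal.subset_span rfl
    · exact Ideal.mem_span_singleton'.2 ⟨b l, (hb l).symm⟩

end Groth.L02.QuotLF.Coker
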