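import Groth.Agent.L02.QuotLF.Hom
import Groth.Prelude.Def_CurvBase

/-!
The Fitting ideal is locally principal where both quotient functors have points.
-/

set_option autoImplicit false
set_option linter.style.haveILetI false
universe u

open TensorProduct AlgebraicGeometry CategoryTheory CategoryTheory.Limits

noncomputable section

namespace Groth.L02.QuotLF

variable {R : Type u} [CommRing R] {n m d r : ℕ}

/-- Local version: two quotients of complementary rank over a local ring. -/
theorem principal_of_two_quotients (σ : (Fin m → R) →ₗ[R] (Fin n → R)) (hnm : n + r = m + d)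
    (L : Type u) [CommRing L] [Algebra R L] [IsLocalRing L]
    (N : Module.Grassmannian L (L ⊗[R] ((Fin n → R) ⧸ LinearMap.range σ)) d)
    (N' : Module.Grassmannian L (L ⊗[R] (Module.Dual R (Fin m → R) ⧸ LinearMap.range σ.dualMap)) r) :
    ∃ a : L, (Fitt.ideal R ((Fin n → R) ⧸ LinearMap.range σ) d).map (algebraMap R L) = Ideal.span {a} := by
  classical
  rw [← Groth.L13.Fitting.ideal_baseChange (R' := L)]
  haveI := N.projective_quotient
  haveI := N'.projective_quotient
  haveI := N'.finite_quotient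
  let x : Fin n → (Fin n → R) ⧸ LinearMap.range σ := fun j => Submodule.Quotient.mk (Pi.single j 1)
  have hsum : ∀ z : Fin n → R, ∑ j, z j • x j = Submodule.Quotient.mk z := fun z => by
    conv_rhs => rw [pi_eq_sum_univ' z]
    simp [x]
    exact (map_sum (LinearMap.range σ).mkQ (fun j => z j • (Pi.single j 1 : Fin n → R)) Finset.univ).symm
  have hx : Submodule.span R (Set.range x) = ⊤ := top_unique fun y _ => by
    obtain ⟨z, rfl⟩ := Submodule.Quotient.mk_surjective _ y
    rw [← hsum z]
    exact Submodule.sum_mem _ fun j _ => Submodule.smul_mem _ _ (Submodule.subset_span ⟨j, rfl⟩)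
  let c : Fin m → Fin n → L := fun i => Groth.L13.Fitting.phi L (σ (Pi.single i 1))
  have hc : ∀ z : Fin n → L, ∑ j, z j • Groth.L13.Fitting.bc (R := R) L x j = 0 ↔
      z ∈ Submodule.span L (Set.range c) := by
    intro z
    constructor
    · intro hz
      have h1 := Groth.L13.Fitting.rel_bc (R' := L) x hx (y := z) (Groth.L13.Fitting.mem_rel.mpr hz)
      refine (Submodule.span_le.mpr ?_) h1
      rintro _ ⟨w, hw, rfl⟩
      have hw' : Submodule.Quotient.mk (p := LinearMap.range σ) w = 0 := (hsum w).symm.trans (Groth.L13.Fitting.mem_rel.mp hw)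
      obtain ⟨v, rfl⟩ := (Submodule.Quotient.mk_eq_zero _).mp hw'
      have : Groth.L13.Fitting.phi L (σ v) = ∑ i, algebraMap R L (v i) • c i := by
        funext j
        conv_lhs => rw [pi_eq_sum_univ' v]
        simp [c, Groth.L13.Fitting.phi, map_sum, map_mul]
        exact Finset.sum_congr rfl fun i _ => (Algebra.smul_def _ _).symm
      rw [SetLike.mem_coe, this]
      exact Submodule.sum_mem _ fun i _ => Submodule.smul_mem _ _ (Submodule.subset_span ⟨i, rfl⟩)
    · intro hz
      refine Groth.L13.Fitting.mem_rel.mp ((Submodule.span_le.mpr ?_) hz)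
      rintro _ ⟨i, rfl⟩
      refine Groth.L13.Fitting.phi_mem_rel (R' := L) (Groth.L13.Fitting.mem_rel.mpr ?_)
      rw [hsum]
      exact (Submodule.Quotient.mk_eq_zero _).mpr ⟨_, rfl⟩
  let y : Fin m → Module.Dual R (Fin m → R) ⧸ LinearMap.range σ.dualMap := fun i =>
    Submodule.Quotient.mk (LinearMap.proj i)
  have hy : Submodule.span R (Set.range y) = ⊤ := top_unique fun w _ => by
    obtain ⟨φ, rfl⟩ := Submodule.Quotient.mk_surjective _ w
    have : φ = ∑ i, φ (Pi.single i 1) • LinearMap.proj i := by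
      refine LinearMap.ext fun v => ?_
      conv_lhs => rw [pi_eq_sum_univ' v]
      simp [mul_comm]
    rw [this, show Submodule.Quotient.mk (p := LinearMap.range σ.dualMap) (∑ i, φ (Pi.single i 1) • LinearMap.proj i) =
      ∑ i, φ (Pi.single i 1) • y i from map_sum (LinearMap.range σ.dualMap).mkQ _ _]
    exact Submodule.sum_mem _ fun i _ => Submodule.smul_mem _ _ (Submodule.subset_span ⟨i, rfl⟩)
  let π' := N'.toSubmodule.mkQ ∘ₗ Fintype.linearCombination L (Groth.L13.Fitting.bc (R := R) L y)
  have hπ' : Function.Surjective π' := (Submodule.mkQ_surjective _).comp fun w => by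
    obtain ⟨z, hz⟩ := (Submodule.mem_span_range_iff_exists_fun L).1
      ((Groth.L13.Fitting.span_bc (R' := L) y hy).ge (Submodule.mem_top (x := w)))
    exact ⟨z, hz⟩
  refine principal_of_local hnm (Groth.L13.Fitting.bc (R := R) L x) (Groth.L13.Fitting.span_bc (R' := L) x hx) c hc
    N.toSubmodule N.rankAtStalk_eq N'.rankAtStalk_eq π' hπ' fun j => ?_
  show N'.toSubmodule.mkQ (Fintype.linearCombination L (Groth.L13.Fitting.bc (R := R) L y) fun i => c i j) = 0
  have h0 : ∑ i, σ (Pi.single i 1) j • y i = 0 := by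
    rw [show ∑ i, σ (Pi.single i 1) j • y i =
      Submodule.Quotient.mk (p := LinearMap.range σ.dualMap) (∑ i, σ (Pi.single i 1) j • LinearMap.proj i) from
        (map_sum (LinearMap.range σ.dualMap).mkQ _ _).symm, Submodule.Quotient.mk_eq_zero]
    refine ⟨LinearMap.proj j, LinearMap.ext fun v => ?_⟩
    show σ v j = _
    conv_lhs => rw [pi_eq_sum_univ' v]
    simp [mul_comm]
  have h1 := Groth.L13.Fitting.phi_mem_rel (R' := L) (x := y) (z := fun i => σ (Pi.single i 1) j)
    (Groth.L13.Fitting.mem_rel.mpr h0)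
  rw [Groth.L13.Fitting.mem_rel] at h1
  rw [Fintype.linearCombination_apply, show ∑ i, c i j • Groth.L13.Fitting.bc (R := R) L y i = 0 from h1, map_zero]

/-- A finitely generated ideal which is principal at a prime is principal nearby. -/
theorem exists_principal_away {A : Type u} [CommRing A] (J : Ideal A) (hJ : J.FG) (p : Ideal A) [p.IsPrime]
    (h : ∃ b : Localization.AtPrime p, J.map (algebraMap A (Localization.AtPrime p)) = Ideal.span {b}) :
    ∃ a g : A, g ∉ p ∧ a ∈ J ∧ ∀ x ∈ J, g * x ∈ Ideal.span {a} := by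
  classical
  obtain ⟨b, hb⟩ := h
  obtain ⟨⟨⟨a, ha⟩, s⟩, hbs⟩ := (IsLocalization.mem_map_algebraMap_iff p.primeCompl (Localization.AtPrime p)).mp
    (hb.ge (Ideal.mem_span_singleton_self b))
  simp only at hbs
  have key : ∀ x ∈ J, ∃ t : A, t ∉ p ∧ t * x ∈ Ideal.span {a} := by
    intro x hx
    have h1 : algebraMap A (Localization.AtPrime p) x ∈ Ideal.span {b} := hb.le (Ideal.mem_map_of_mem _ hx)
    obtain ⟨w, hw⟩ := Ideal.mem_span_singleton'.mp h1
    have hu := IsLocalization.map_units (Localization.AtPrime p) s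
    have h2 : algebraMap A (Localization.AtPrime p) x ∈ (Ideal.span {a}).map (algebraMap A (Localization.AtPrime p)) := by
      rw [Ideal.map_span, Set.image_singleton, ← hbs, Ideal.span_singleton_mul_right_unit hu, Ideal.mem_span_singleton']
      exact ⟨w, hw⟩
    obtain ⟨t, ht, htx⟩ := (IsLocalization.algebraMap_mem_map_algebraMap_iff p.primeCompl (Localization.AtPrime p)
      (Ideal.span {a}) x).mp h2
    exact ⟨t, ht, htx⟩
  choose! t ht htx using key
  obtain ⟨S, rfl⟩ := hJ
  refine ⟨a, ∏ x ∈ S, t x, fun hmem => ?_, ha, fun x hx => ?_⟩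
  · obtain ⟨x, hx, hxp⟩ := (‹p.IsPrime›).prod_mem_iff.mp hmem
    exact ht x (Submodule.subset_span hx) hxp
  · induction hx using Submodule.span_induction with
    | mem x hx =>
      rw [← Finset.mul_prod_erase S t hx, mul_comm (t x), mul_assoc]
      exact Ideal.mul_mem_left _ _ (htx x (Submodule.subset_span hx))
    | zero => rw [mul_zero]; exact zero_mem _
    | add y z _ _ hy hz => rw [mul_add]; exact add_mem hy hz
    | smul c y _ hy => rw [smul_eq_mul, mul_left_comm]; exact Ideal.mul_mem_left _ _ hy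

/-- Where both functors have points the Fitting ideal is locally principal. -/
theorem isLocPrincipal_comap (σ : (Fin m → R) →ₗ[R] (Fin n → R)) (hnm : n + r = m + d)
    {Bp Bm : Over (Spec (CommRingCat.of R))}
    (ep : ∀ A : CommAlgCat.{u} R, (Over.mk (Spec.map (CommRingCat.ofHom (algebraMap R A))) ⟶ Bp) ≃
      (Module.Grassmannian.functor (R := R) (M := ((Fin n → R) ⧸ LinearMap.range σ)) d).obj A)
    (em : ∀ A : CommAlgCat.{u} R, (Over.mk (Spec.map (CommRingCat.ofHom (algebraMap R A))) ⟶ Bm) ≃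
      (Module.Grassmannian.functor (R := R) (M := (Module.Dual R (Fin m → R) ⧸ LinearMap.range σ.dualMap)) r).obj A) :
    Curv2.IsLocPrincipal
      ((Spec.map (CommRingCat.ofHom (Ideal.Quotient.mk (Fitt.ideal R ((Fin n → R) ⧸ LinearMap.range σ) d)))).ker.comap
        (pullback.fst Bp.hom Bm.hom ≫ Bp.hom)) := by
  let t := pullback.fst Bp.hom Bm.hom ≫ Bp.hom
  intro x _
  obtain ⟨_, ⟨U, hU, rfl⟩, hxU, -⟩ :=
    (pullback Bp.hom Bm.hom).isBasis_affineOpens.exists_subset_of_mem_open (Set.mem_univ x) isOpen_univ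
  let U' : (pullback Bp.hom Bm.hom).Opens := U
  let p := (hU.primeIdealOf ⟨x, hxU⟩).asIdeal
  let A := Γ(pullback Bp.hom Bm.hom, U')
  let L := Localization.AtPrime p
  letI : Algebra R L := ((algebraMap A L).comp (χ t U')).toAlgebra
  let u : Spec (CommRingCat.of L) ⟶ pullback Bp.hom Bm.hom := Spec.map (CommRingCat.ofHom (algebraMap A L)) ≫ hU.fromSpec
  have hu : u ≫ t = Spec.map (CommRingCat.ofHom (algebraMap R L)) := by
    rw [Category.assoc, fromSpec_comp t hU, ← Spec.map_comp]
    rfl
  let N := ep (CommAlgCat.of R L) (Over.homMk (u ≫ pullback.fst _ _) ((Category.assoc _ _ _).trans hu))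
  let N' := em (CommAlgCat.of R L) (Over.homMk (u ≫ pullback.snd _ _) (by
    show (u ≫ pullback.snd _ _) ≫ Bm.hom = _
    rw [Category.assoc, ← pullback.condition]; exact hu))
  obtain ⟨b, hb⟩ := principal_of_two_quotients σ hnm L N N'
  haveI : Module.FinitePresentation R ((Fin n → R) ⧸ LinearMap.range σ) :=
    Module.finitePresentation_of_surjective (LinearMap.range σ).mkQ (Submodule.mkQ_surjective _)
      (by rw [Submodule.ker_mkQ]; exact Module.Finite.iff_fg.mp inferInstance)
  let J : Ideal A := (Fitt.ideal R ((Fin n → R) ⧸ LinearMap.range σ) d).map (χ t U')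
  obtain ⟨a, g, hg, ha, hgJ⟩ := exists_principal_away J
    ((Groth.L13.Fitting.ideal_fg_of_finitePresentation d).map _) p ⟨b, by rw [Ideal.map_map]; exact hb⟩
  have hxg : x ∈ (pullback Bp.hom Bm.hom).basicOpen g := by
    have hmem : hU.primeIdealOf ⟨x, hxU⟩ ∈ PrimeSpectrum.basicOpen g := hg
    rw [← IsAffineOpen.fromSpec_preimage_basicOpen hU g] at hmem
    have : hU.fromSpec (hU.primeIdealOf ⟨x, hxU⟩) ∈ (pullback Bp.hom Bm.hom).basicOpen g := hmem
    rwa [hU.fromSpec_primeIdealOf ⟨x, hxU⟩] at this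
  refine ⟨⟨_, hU.basicOpen g⟩, hxg,
    (pullback Bp.hom Bm.hom).presheaf.map (homOfLE ((pullback Bp.hom Bm.hom).basicOpen_le g)).op a, ?_⟩
  rw [← Scheme.IdealSheafData.map_ideal _ (U := ⟨_, hU.basicOpen g⟩) (V := ⟨U', hU⟩)
    ((pullback Bp.hom Bm.hom).basicOpen_le g), ideal_comap t]
  refine le_antisymm (Ideal.map_le_iff_le_comap.mpr fun z hz => ?_) ?_
  · obtain ⟨w, hw⟩ := Ideal.mem_span_singleton'.mp (hgJ z hz)
    haveI := hU.isLocalization_basicOpen g
    have hgu : IsUnit ((pullback Bp.hom Bm.hom).presheaf.map (homOfLE ((pullback Bp.hom Bm.hom).basicOpen_le g)).op g) :=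
      IsLocalization.Away.algebraMap_isUnit (S := Γ(pullback Bp.hom Bm.hom, (pullback Bp.hom Bm.hom).basicOpen g)) g
    rw [Ideal.mem_comap, Ideal.mem_span_singleton']
    refine ⟨hgu.unit⁻¹.val * (pullback Bp.hom Bm.hom).presheaf.map (homOfLE ((pullback Bp.hom Bm.hom).basicOpen_le g)).op w, ?_⟩
    rw [mul_assoc, ← map_mul, hw, map_mul, ← mul_assoc, IsUnit.val_inv_mul, one_mul]
    rfl
  · rw [Ideal.span_singleton_le_iff_mem]
    exact Ideal.mem_map_of_mem _ ha

end Groth.L02.QuotLF
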